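import Cfsg.Agent.Omega.NO3S.TwoFar.Inst
import Cfsg.Agent.Omega.NOThree.LL.Grand
import Cfsg.Agent.Omega.NOThree.TF.Md
import Cfsg.Agent.Omega.ML.Final

/-!
# TwoFar: (NO) from (ML)

* `noOver_of_mlk` : `MLK` and K-groups `C_G(p)` give `NoOver` for the point geometry of `Fr T V z`.
-/

set_option autoImplicit false
set_option linter.unusedSectionVars false

namespace Cfsg.Agent.Omega.NO3S.TwoFar

open Subgroup Cfsg Cfsg.Agent.ZN Cfsg.Agent.MinSimple.Geo Cfsg.Agent.Omega.CaseL Cfsg.Agent.Omega.NO3S.TwoOne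
open Cfsg.Agent.Omega.NO3S.Pt
open Cfsg.Agent.Omega.NOThree (LemmaM.NoOver)
open Cfsg.Agent.Omega.NOThree.LL (four')
open Cfsg.Agent.ZN.Block (conj_mem_of_normalizer conj_mem_of_normalizer' le_normalizer_of_forall
  mem_normalizer_of)

universe u

variable {G : Type u} [Group G] {T V : Subgroup G} {z : G}

/-- the lines through a point are conjugate under its centraliser -/
theorem exists_of_mem_lines' (h : Fr T V z) {g q : G} (hq : q ∈ cj g V) (hq1 : q ≠ 1) {L : Subgroup G}
    (hL : L ∈ lines V q) : ∃ c ∈ centralizer ({q} : Set G), L = cj c (cj g V) := by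
  obtain ⟨k, -, -, hf⟩ := h.flag hq hq1
  exact hf.ln.exists_of_mem_lines (by rwa [lines_cj])

/-- the data of (ML) for a flag -/
theorem gdat [Finite G] (h : Fr T V z) {g q : G} (hq : q ∈ cj g V) (hq1 : q ≠ 1) {A : Subgroup G}
    (hA : A ≤ o2 (centralizer ((cj g V : Subgroup G) : Set G))) (hsq : ∀ a ∈ A, a * a = 1) :
    ∃ T' w, ML.Final.GDat (centralizer ({q} : Set G)) (ws V q) (zpowers q) T'
      (o2 (centralizer ((cj g V : Subgroup G) : Set G))) A w := by
  obtain ⟨k, -, -, hf⟩ := h.flag hq hq1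
  obtain ⟨x, hx, hx1, hxq⟩ := hf.exists_q hq hq1
  have hcol : Col V q x := Col.of_mem hq hx hq1 hx1
  have hqc : Col V q q := hcol.left
  have hqq : q * q = 1 := h.pt_sq hqc
  have hmz : ∀ a : G, a ∈ zpowers q ↔ a = 1 ∨ a = q := fun a => mem_zpowers_iff_of_mul_self hqq
  obtain ⟨T', hT1, hT2, hT3, hT4, -, -⟩ := NOThree.TF.exists_T h hcol hxq
  have hcq : ∀ c ∈ centralizer ({q} : Set G), c * q = q * c := fun c hc => mem_centralizer_singleton_iff.1 hc
  have hY : centralizer ({q} : Set G) ≤ normalizer ((zpowers q : Subgroup G) : Set G) := by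
    refine le_normalizer_of_forall fun c hc a ha => ?_
    rw [hmz] at ha ⊢
    rcases ha with rfl | rfl
    · left; group
    · right
      rw [hcq c hc]; group
  have hQC : centralizer ((cj g V : Subgroup G) : Set G) ≤ centralizer ({q} : Set G) :=
    centralizer_le (Set.singleton_subset_iff.2 hq)
  have hxw : x ∈ ws V q := h.mem_ws_of_col hcol
  refine ⟨T', x, ⟨?_, hY, ?_, ?_, ?_, hxw, ?_, hT1, hT2, hT3, ?_, ?_, ?_, ?_, ?_, hA, ?_⟩⟩
  · exact centralizer_le_normalizer_ws V q
  · rw [zpowers_le]; exact h.mem_ws_self hqc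
  · exact (h.ws_le_cent hqc).trans hY
  · intro a ha
    rw [h.ws_sq hqc a ha]; exact one_mem _
  · -- generation
    intro U hxU hYU hCU
    have hqU : q ∈ U := hYU (mem_zpowers q)
    have hgU : cj g V ≤ U := by
      intro e he
      rcases four' h hq hq1 hx hx1 hxq he with e1 | e1 | e1 | e1
      · rw [e1]; exact one_mem _
      · rw [e1]; exact hqU
      · rw [e1]; exact hxU
      · rw [e1]; exact mul_mem hqU hxU
    refine ws_le fun L hL => ?_
    obtain ⟨c, hc, rfl⟩ := exists_of_mem_lines' h hq hq1 hL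
    intro a ha
    rw [mem_cj] at ha
    have e : a = c * (c⁻¹ * a * c) * c⁻¹ := by group
    rw [e]
    exact conj_mem_of_normalizer hCU hc (hgU ha)
  · intro t ht
    rw [hmz]
    rcases hT4 t ht with e | e
    · left; rw [e]; group
    · right; rw [e]; group
  · exact (o2_le _).trans hQC
  · exact isPGroup_o2 _
  · intro c hc
    have hc' := mem_centralizer_iff.1 (o2_le _ hc) x hx
    rw [hmz]
    left
    rw [← hc']; group
  · -- normaliser
    intro c hc hcx b hb
    have hcN : ∀ e ∈ cj g V, c * e * c⁻¹ ∈ cj g V := by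
      have key : ∀ e ∈ cj g V, c * e * c⁻¹ ∈ cj g V := by
        have hx' : c * x * c⁻¹ ∈ cj g V := by
          rw [hmz] at hcx
          rcases hcx with e1 | e1
          · have e2 : c * x * c⁻¹ = x := mul_inv_eq_one.1 e1
            rw [e2]; exact hx
          · have e2 : c * x * c⁻¹ = q * x := mul_inv_eq_iff_eq_mul.1 e1
            rw [e2]; exact mul_mem hq hx
        have hq' : c * q * c⁻¹ ∈ cj g V := by
          rw [hcq c hc, mul_inv_cancel_right]; exact hq
        intro e he
        rcases four' h hq hq1 hx hx1 hxq he with e1 | e1 | e1 | e1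
        · rw [e1]; simp
        · rw [e1]; exact hq'
        · rw [e1]; exact hx'
        · rw [e1]
          have e2 : c * (q * x) * c⁻¹ = (c * q * c⁻¹) * (c * x * c⁻¹) := by group
          rw [e2]; exact mul_mem hq' hx'
      exact key
    have hcN' : cj c (cj g V) = cj g V := by
      refine Subgroup.eq_of_le_of_card_ge (fun a ha => ?_) ?_
      · rw [mem_cj] at ha
        have := hcN _ ha
        have e : c * (c⁻¹ * a * c) * c⁻¹ = a := by group
        rwa [e] at this
      · rw [card_cj, card_cj, card_cj]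
    have hcC : c ∈ normalizer ((centralizer ((cj g V : Subgroup G) : Set G) : Subgroup G) : Set G) := by
      have hN : c ∈ normalizer ((cj g V : Subgroup G) : Set G) := by
        refine mem_normalizer_of hcN fun e he => ?_
        rw [← hcN', mem_cj] at he
        exact he
      have key : ∀ d ∈ normalizer ((cj g V : Subgroup G) : Set G), ∀ y ∈ centralizer ((cj g V : Subgroup G) : Set G),
          d * y * d⁻¹ ∈ centralizer ((cj g V : Subgroup G) : Set G) := by
        intro d hd y hy
        rw [mem_centralizer_iff] at hy ⊢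
        intro v hv
        have hv' : d⁻¹ * v * d ∈ cj g V := conj_mem_of_normalizer' le_rfl hd hv
        calc v * (d * y * d⁻¹) = d * ((d⁻¹ * v * d) * y) * d⁻¹ := by group
          _ = d * (y * (d⁻¹ * v * d)) * d⁻¹ := by rw [hy _ hv']
          _ = d * y * d⁻¹ * v := by group
      exact mem_normalizer_of (key c hN) fun y hy => by
        have := key c⁻¹ (inv_mem hN) y hy
        rwa [inv_inv] at this
    exact conj_mem_of_normalizer (normalizer_le_normalizer_o2 _) hcC hb
  · intro a ha u hu
    have e : a * (a * u * a⁻¹) * a⁻¹ * u⁻¹ = (a * a) * u * (a * a)⁻¹ * u⁻¹ := by group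
    rw [e, hsq a ha, hmz]
    left; group

/-- **(NO) from (ML)** -/
theorem noOver_of_mlk [Finite G] (hML : ML.Final.MLK.{u, u}) (h : Fr T V z)
    (hK : ∀ p, Col V p p → IsKGroup (centralizer ({p} : Set G))) :
    NOThree.LemmaM.NoOver (inc (V := V)) RR WS VL := by
  intro q l hql A hA _ hsq _ _ N C hN hC
  obtain ⟨g, hg⟩ := l.2
  have hq : q.1 ∈ cj g V := hg ▸ hql
  have hA' : A ≤ o2 (centralizer ((cj g V : Subgroup G) : Set G)) := by rw [← hg]; exact hA
  obtain ⟨T', w, D⟩ := gdat h hq q.ne_one hA' hsq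
  exact ML.Final.MLK.grp hML (hK q.1 q.2) D hN hC

end Cfsg.Agent.Omega.NO3S.TwoFar
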