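import Cfsg.Agent.Omega.Node.NO3S
import Cfsg.Agent.Omega.NO3S.TwoOne.Main
import Cfsg.Agent.Omega.NO3S.TwoFar.NoOv
import Cfsg.Agent.Omega.NOThree.LL.NoGoal
import Cfsg.Agent.Omega.NOThree.LL.Exist

/-!
# The socket `TwoFar` of the leaf NO-3S (`q = 2`, critical distance `n ≥ 3`)

* `NTriv K` : the open input, `N_z = ⟨z⟩`, i.e. `C_{W_z}(K_z) = ⟨z⟩` (LEMMA FIX / THEOREM N);
* `twoFar_of` : `TwoFar K` from (ML), (F1) and `NTriv K` (THEOREM S #17490 and THEOREM LL #18157).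
-/

set_option autoImplicit false

namespace Cfsg.Agent.Omega.NO3S.TwoFar

open Subgroup Cfsg Cfsg.Agent.ZN Cfsg.Agent.MinSimple.Geo Cfsg.Agent.Omega.CaseL Cfsg.Agent.Omega.NO3S.TwoOne
open Cfsg.Agent.Omega.NO3S Cfsg.Agent.Omega.NO3S.Pt Cfsg.Agent.Omega.Frame
open Cfsg.Agent.Omega.NO3S.Dual (nn mem_nn)
open Cfsg.Agent.Omega.NOThree (LL.exists_goal LL.no_goal_of_mlk)

universe u

variable (K : Cls.{u})

/-- **`N_z = ⟨z⟩`**: `C_{W_z}(K_z) = ⟨z⟩` if the critical distance is at least 3. Paper: LEMMA FIX #19497 (helper77),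
THEOREM N #19593 (helper734), #19410 (helper251), #19454 (helper937), #19795 (helper24) if `J(S) ≰ O₂(P)`. -/
def NTriv : Prop :=
  ∀ (G : Type u) [Group G] [Finite G], K G → ∀ (S : Sylow 2 G) (P : Subgroup G), Hyp S P →
    Nat.card (zl (S : Subgroup G) P) = 4 → ∀ z ∈ zc (S : Subgroup G), z ≠ 1 →
      Fr (S : Subgroup G) (zl (S : Subgroup G) P) z →
      ∀ (n : ℕ) (y : G), 3 ≤ n → CritP (S : Subgroup G) P n 1 y →
        Cr (zl (S : Subgroup G) P) n z (y * z * y⁻¹) →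
        nn (ws (zl (S : Subgroup G) P) z) (kq (zl (S : Subgroup G) P) z) ≤ zpowers z ∨ IsKnownSimple' G

variable {K}

section

variable {G : Type u} [Group G] {T V : Subgroup G} {z : G}

/-- `N_p = ⟨p⟩` at one point gives it at every point -/
theorem nn_le_of_conj {p : G} (k : G) (hk : k * z * k⁻¹ = p)
    (hz : nn (ws V z) (kq V z) ≤ zpowers z) : nn (ws V p) (kq V p) ≤ zpowers p := by
  intro a ha
  rw [mem_nn] at ha
  have e1 : k⁻¹ * p * k = z := by rw [← hk]; group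
  have h1 : k⁻¹ * a * k ∈ nn (ws V z) (kq V z) := by
    rw [mem_nn]
    constructor
    · have := conj_mem_ws k⁻¹ ha.1
      rwa [inv_inv, e1] at this
    · intro b hb
      have hb' : k * b * k⁻¹ ∈ kq V p := by
        have := conj_mem_kq k hb
        rwa [hk] at this
      have h2 := ha.2 _ hb'
      calc b * (k⁻¹ * a * k) = k⁻¹ * ((k * b * k⁻¹) * a) * k := by group
        _ = k⁻¹ * (a * (k * b * k⁻¹)) * k := by rw [h2]
        _ = k⁻¹ * a * k * b := by group
  obtain ⟨i, hi⟩ := mem_zpowers_iff.1 (hz h1)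
  refine mem_zpowers_iff.2 ⟨i, ?_⟩
  have e2 : p ^ i = k * z ^ i * k⁻¹ := by rw [← hk, conj_zpow]
  change z ^ i = k⁻¹ * a * k at hi
  rw [e2, hi]; group

theorem isKGroup_centralizer_pt [Finite G] {S : Sylow 2 G} {P : Subgroup G} (h : Hyp S P) {p : G} (hp : p ≠ 1) :
    IsKGroup (centralizer ({p} : Set G)) := by
  refine h.ctx.kproper _ fun htop => ?_
  have := h.ctx.simple
  have hc : p ∈ center G := by
    rw [mem_center_iff]
    intro g
    have hg : g ∈ centralizer ({p} : Set G) := by rw [htop]; exact mem_top g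
    exact mem_centralizer_singleton_iff.1 hg
  rcases (inferInstance : (center G).Normal).eq_bot_or_eq_top with h1 | h1
  · rw [h1, mem_bot] at hc
    exact hp hc
  · apply h.ctx.nonComm
    refine ⟨⟨fun a b => ?_⟩⟩
    have hb : b ∈ center G := by rw [h1]; exact mem_top b
    exact mem_center_iff.1 hb a

/-- **no critical pair at distance `n ≥ 3`** if `N_z = ⟨z⟩` -/
theorem far_false [Finite G] (hML : ML.Final.MLK.{u, u}) (h : Fr T V z)
    (hK : ∀ p, Col V p p → IsKGroup (centralizer ({p} : Set G)))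
    (hN : nn (ws V z) (kq V z) ≤ zpowers z) {n : ℕ} (hn : 3 ≤ n) {p q : G} (hc : Cr V n p q) : False := by
  obtain ⟨m, rfl⟩ := Nat.exists_eq_add_of_le' hn
  have hNO := noOver_of_mlk hML h hK
  obtain ⟨p', x, q', hg⟩ := LL.exists_goal (m := m) h hNO (fun p hp => by
    obtain ⟨k, hk⟩ := h.isPt hp
    exact nn_le_of_conj k hk hN) ⟨p, q, hc⟩
  exact LL.no_goal_of_mlk hML h hNO hK hg

end

/-- **The socket `TwoFar`** from (ML), (F1) and `N_z = ⟨z⟩`. -/
theorem twoFar_of (hML : ML.Final.MLK.{u, u}) (h1 : TwoOne.FOneP K) (h2 : NTriv K) : NO3S.TwoFar K := by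
  intro G _ _ hK S P h hc n y hn hy
  obtain ⟨z, hz1⟩ := Subgroup.ne_bot_iff_exists_ne_one.1
    (MinSimple.Basic.zc_ne_bot S.isPGroup' (h.ctx.sylow_ne_bot S))
  have hz1' : (z : G) ≠ 1 := fun e => hz1 (Subtype.ext e)
  rcases h1 G hK S P h hc z z.2 hz1' with hf | hk
  · have hfr := fr_four h hc z.2 hz1' hf
    have hcr := cr_of_crit h hc z.2 hz1' hfr hy
    rcases h2 G hK S P h hc z z.2 hz1' hfr n y hn hy hcr with hN | hk
    · exact (far_false hML hfr (fun p hp => isKGroup_centralizer_pt h hp.ne_one) hN hn hcr).elim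
    · exact hk
  · exact hk

end Cfsg.Agent.Omega.NO3S.TwoFar
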