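import Cfsg.Agent.Involutions.BaerSuzuki

/-!
# THEOREM ONE (NO-3S TwoFar, K-free; helper430 #17614, fill-ins of helper151 #17783)

`H` acts on the finite `F₂`-space `M` (additive, faithful), `Λ` an `H`-invariant set of vectors ('line vectors'), `U ν`
(`ν ∈ Λ`) equivariant subspaces with `ν ∈ U ν`, `Bt U ν = C_H(U_ν) ∩ C_H(M/U_ν)`.

`At Λ U` : (F2') every functional `φ` with `φ(ν) = 0` is induced: some `k ∈ H` fixes `ν` and `k u = u + φ(u) ν` on `U_ν`.

**THEOREM ONE** (`At.card_eq_two`): `λ ∈ Λ`, (NO) `|B||C_M(B)| ≤ |M|` for all `B ≤ Bt U λ`, `O₂(H) = 1` (Baer–Suzuki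
form `BS`), `A ≤ Bt U λ` a minimal exact subgroup, `[M, A] ∩ Λ = ∅`.  Then `|A| = 2`.
-/

set_option autoImplicit false
set_option linter.unusedSectionVars false

namespace Cfsg.Agent.Omega.NO3S.TwoFar.AtomOne

open Subgroup

variable {H : Type*} [Group H] {M : Type*} [AddCommGroup M] [DistribMulAction H M]

/-! ### Fixed points, commutators -/

variable (M) in
/-- `C_M(X)` -/
def CM (X : Subgroup H) : AddSubgroup M where
  carrier := {m | ∀ x ∈ X, x • m = m}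
  zero_mem' := fun x _ => smul_zero x
  add_mem' := fun {a b} ha hb x hx => by rw [smul_add, ha x hx, hb x hx]
  neg_mem' := fun {a} ha x hx => by rw [smul_neg, ha x hx]

theorem mem_CM {X : Subgroup H} {m : M} : m ∈ CM M X ↔ ∀ x ∈ X, x • m = m := Iff.rfl

variable (M) in
/-- `[M, X]` -/
def RM (X : Subgroup H) : AddSubgroup M := AddSubgroup.closure {m | ∃ x ∈ X, ∃ v : M, m = x • v - v}

theorem sub_mem_RM {X : Subgroup H} {x : H} (hx : x ∈ X) (v : M) : x • v - v ∈ RM M X :=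
  AddSubgroup.subset_closure ⟨x, hx, v, rfl⟩

/-- `C_H(U_ν) ∩ C_H(M/U_ν)` -/
def Bt (U : M → AddSubgroup M) (v : M) : Subgroup H where
  carrier := {g | (∀ u ∈ U v, g • u = u) ∧ ∀ m : M, g • m - m ∈ U v}
  one_mem' := ⟨fun u _ => one_smul H u, fun m => by rw [one_smul, sub_self]; exact zero_mem _⟩
  mul_mem' := fun {a b} ha hb => ⟨fun u hu => by rw [mul_smul, hb.1 u hu, ha.1 u hu], fun m => by
    have e : (a * b) • m - m = (a • (b • m) - b • m) + (b • m - m) := by rw [mul_smul]; abel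
    rw [e]
    exact add_mem (ha.2 _) (hb.2 _)⟩
  inv_mem' := fun {a} ha => ⟨fun u hu => by rw [inv_smul_eq_iff, ha.1 u hu], fun m => by
    have h1 := ha.2 (a⁻¹ • m)
    rw [smul_inv_smul] at h1
    have e : a⁻¹ • m - m = -(m - a⁻¹ • m) := by abel
    rw [e]
    exact neg_mem h1⟩

theorem mem_Bt {U : M → AddSubgroup M} {v : M} {g : H} :
    g ∈ Bt U v ↔ (∀ u ∈ U v, g • u = u) ∧ ∀ m : M, g • m - m ∈ U v := Iff.rfl

/-- the conjugate `k X k⁻¹` -/
def cg (k : H) (X : Subgroup H) : Subgroup H := X.map (MulAut.conj k).toMonoidHom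

theorem mem_cg {k : H} {X : Subgroup H} {x : H} : x ∈ cg k X ↔ k⁻¹ * x * k ∈ X := by
  constructor
  · rintro ⟨y, hy, rfl⟩
    have e : k⁻¹ * ((MulAut.conj k).toMonoidHom y) * k = y := by
      change k⁻¹ * (k * y * k⁻¹) * k = y
      group
    rw [e]
    exact hy
  · intro h
    refine ⟨_, h, ?_⟩
    change k * (k⁻¹ * x * k) * k⁻¹ = x
    group

theorem conj_mem_cg {k : H} {X : Subgroup H} {x : H} (hx : x ∈ X) : k * x * k⁻¹ ∈ cg k X := by
  rw [mem_cg]
  have e : k⁻¹ * (k * x * k⁻¹) * k = x := by group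
  rwa [e]

theorem card_cg (k : H) (X : Subgroup H) : Nat.card (cg k X) = Nat.card X :=
  Nat.card_congr (X.equivMapOfInjective _ (MulAut.conj k).injective).symm.toEquiv

theorem cg_cg (k l : H) (X : Subgroup H) : cg k (cg l X) = cg (k * l) X := by
  ext x
  rw [mem_cg, mem_cg, mem_cg]
  have e : l⁻¹ * (k⁻¹ * x * k) * l = (k * l)⁻¹ * x * (k * l) := by group
  rw [e]

theorem cg_one (X : Subgroup H) : cg 1 X = X := by
  ext x
  rw [mem_cg]
  simp

theorem mem_CM_cg {k : H} {X : Subgroup H} {m : M} : m ∈ CM M (cg k X) ↔ k⁻¹ • m ∈ CM M X := by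
  constructor
  · intro h x hx
    have h1 := h (k * x * k⁻¹) (conj_mem_cg hx)
    rw [mul_smul, mul_smul] at h1
    rw [eq_inv_smul_iff]
    exact h1
  · intro h x hx
    have h1 := h (k⁻¹ * x * k) (mem_cg.1 hx)
    rw [mul_smul, mul_smul, smul_inv_smul] at h1
    exact (MulAction.injective k⁻¹) h1

theorem card_CM_cg (k : H) (X : Subgroup H) : Nat.card (CM M (cg k X)) = Nat.card (CM M X) := by
  refine Nat.card_congr ⟨fun m => ⟨k⁻¹ • (m : M), mem_CM_cg.1 m.2⟩, fun m => ⟨k • (m : M), mem_CM_cg.2 ?_⟩, ?_, ?_⟩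
  · rw [inv_smul_smul]
    exact m.2
  · intro m
    exact Subtype.ext (smul_inv_smul k (m : M))
  · intro m
    exact Subtype.ext (inv_smul_smul k (m : M))

/-! ### Counting -/

theorem card_mul_relIndex {X Y : AddSubgroup M} (h : X ≤ Y) : Nat.card X * X.relIndex Y = Nat.card Y := by
  have h1 := AddSubgroup.relIndex_mul_relIndex ⊥ X Y bot_le h
  rwa [AddSubgroup.relIndex_bot_left, AddSubgroup.relIndex_bot_left] at h1

theorem card_sup_mul (X Y : AddSubgroup M) :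
    Nat.card X * Nat.card Y = Nat.card (X ⊔ Y : AddSubgroup M) * Nat.card (X ⊓ Y : AddSubgroup M) := by
  have e1 := card_mul_relIndex (inf_le_left : X ⊓ Y ≤ X)
  have e2 := card_mul_relIndex (le_sup_right : Y ≤ X ⊔ Y)
  rw [AddSubgroup.inf_relIndex_left] at e1
  rw [AddSubgroup.relIndex_sup_right] at e2
  rw [← e1, ← e2]
  ring

/-- `|X| |Y| ≤ |D| |Z|` if `X, Y ≤ Z`, `X ∩ Y ≤ D` -/
theorem card_mul_le [Finite M] {X Y Z D : AddSubgroup M} (hX : X ≤ Z) (hY : Y ≤ Z) (hD : X ⊓ Y ≤ D) :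
    Nat.card X * Nat.card Y ≤ Nat.card D * Nat.card Z := by
  rw [card_sup_mul X Y, mul_comm]
  exact Nat.mul_le_mul (Nat.card_mono (Set.toFinite _) hD) (Nat.card_mono (Set.toFinite _) (sup_le hX hY))

theorem eq_of_card_le [Finite M] {X Y : AddSubgroup M} (h : X ≤ Y) (hc : Nat.card Y ≤ Nat.card X) : X = Y :=
  SetLike.coe_injective (Set.eq_of_subset_of_ncard_le h (by
    rwa [← Nat.card_coe_set_eq, ← Nat.card_coe_set_eq] at *) (Set.toFinite _))

/-- a functional vanishing on `D`, not on `x` -/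
theorem exists_fun (two : ∀ m : M, m + m = 0) {D : AddSubgroup M} {x : M} (hx : x ∉ D) :
    ∃ φ : M →+ ZMod 2, (∀ d ∈ D, φ d = 0) ∧ φ x = 1 := by
  let _ : Module (ZMod 2) M := AddCommGroup.zmodModule (n := 2) fun m => by rw [two_nsmul, two]
  obtain ⟨f, h1, h2⟩ := Submodule.exists_le_ker_of_notMem (p := AddSubgroup.toZModSubmodule 2 D) (v := x) hx
  refine ⟨f.toAddMonoidHom, fun d hd => ?_, ?_⟩
  · exact LinearMap.mem_ker.1 (h2 hd)
  · have h3 : ∀ c : ZMod 2, c ≠ 0 → c = 1 := by decide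
    exact h3 _ h1

/-! ### The frame -/

variable (H) in
/-- the frame -/
structure At (Lam : Set M) (U : M → AddSubgroup M) : Prop where
  two : ∀ m : M, m + m = 0
  faith : ∀ g : H, (∀ m : M, g • m = m) → g = 1
  lam_smul : ∀ g : H, ∀ v ∈ Lam, g • v ∈ Lam
  u_smul : ∀ g : H, ∀ v ∈ Lam, ∀ u ∈ U v, g • u ∈ U (g • v)
  self : ∀ v ∈ Lam, v ∈ U v
  f2 : ∀ v ∈ Lam, ∀ φ : M →+ ZMod 2, φ v = 0 → ∃ k : H, k • v = v ∧
    ∀ u ∈ U v, (φ u = 0 → k • u = u) ∧ (φ u ≠ 0 → k • u = u + v)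
  bs : ∀ v ∈ Lam, ∀ f : H, f ∈ Bt U v → f ≠ 1 → ∃ h : H, h ≠ 1 ∧ Odd (orderOf h) ∧ f * h * f⁻¹ = h⁻¹

/-- an element of odd order is a power of its square -/
theorem exists_pow_sq {h : H} (ho : Odd (orderOf h)) : ∃ n : ℕ, (h * h) ^ n = h := by
  obtain ⟨k, hk⟩ := ho
  refine ⟨k + 1, ?_⟩
  rw [← pow_two, ← pow_mul]
  have h2 : 2 * (k + 1) = orderOf h + 1 := by omega
  rw [h2, pow_add, pow_orderOf_eq_one, one_mul, pow_one]

theorem pow_smul_eq {g : H} {m : M} (h : g • m = m) : ∀ n : ℕ, g ^ n • m = m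
  | 0 => by rw [pow_zero, one_smul]
  | n + 1 => by rw [pow_succ, mul_smul, h, pow_smul_eq h n]

/-- `h² x = x` implies `h x = x` for `h` of odd order -/
theorem smul_eq_of_sq {h : H} (ho : Odd (orderOf h)) {m : M} (hm : (h * h) • m = m) : h • m = m := by
  obtain ⟨n, hn⟩ := exists_pow_sq ho
  have h1 := pow_smul_eq hm n
  rwa [hn] at h1

namespace At

variable {Lam : Set M} {U : M → AddSubgroup M} (F : At H Lam U)
include F

theorem neg_eq (m : M) : -m = m := neg_eq_of_add_eq_zero_left (F.two m)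

theorem sub_eq (a b : M) : a - b = a + b := by rw [sub_eq_add_neg, F.neg_eq]

theorem mem_U_smul {g : H} {v u : M} (hv : v ∈ Lam) : g • u ∈ U (g • v) ↔ u ∈ U v := by
  refine ⟨fun h => ?_, F.u_smul g v hv u⟩
  have h1 := F.u_smul g⁻¹ _ (F.lam_smul g v hv) _ h
  rwa [inv_smul_smul, inv_smul_smul] at h1

theorem conj_mem_Bt {k g : H} {v : M} (hv : v ∈ Lam) (hg : g ∈ Bt U v) : k * g * k⁻¹ ∈ Bt U (k • v) := by
  refine ⟨fun u hu => ?_, fun m => ?_⟩
  · have h1 : k⁻¹ • u ∈ U v := by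
      have h2 := F.u_smul k⁻¹ _ (F.lam_smul k v hv) u hu
      rwa [inv_smul_smul] at h2
    rw [mul_smul, mul_smul, hg.1 _ h1, smul_inv_smul]
  · have h1 := F.u_smul k v hv _ (hg.2 (k⁻¹ • m))
    rwa [smul_sub, smul_inv_smul, ← mul_smul, ← mul_smul] at h1

theorem mem_Bt_conj {k g : H} {v : M} (hv : v ∈ Lam) (hg : g ∈ Bt U (k • v)) : k⁻¹ * g * k ∈ Bt U v := by
  have h1 := F.conj_mem_Bt (k := k⁻¹) (F.lam_smul k v hv) hg
  rwa [inv_smul_smul, inv_inv] at h1

/-- `[m, a b] = [m, a] + [m, b]` on `Bt U v` -/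
theorem cm_mul {v : M} {a b : H} (ha : a ∈ Bt U v) (hb : b ∈ Bt U v) (m : M) :
    (a * b) • m - m = (a • m - m) + (b • m - m) := by
  have h1 := ha.1 _ (hb.2 m)
  rw [smul_sub] at h1
  have h2 : a • b • m = a • m + (b • m - m) := by rw [← h1]; abel
  rw [mul_smul, h2]
  abel

theorem sq {v : M} {a : H} (ha : a ∈ Bt U v) : a * a = 1 := by
  apply F.faith
  intro m
  have h1 := F.cm_mul ha ha m
  rw [F.two] at h1
  exact sub_eq_zero.1 h1

theorem comm {v : M} {a b : H} (ha : a ∈ Bt U v) (hb : b ∈ Bt U v) : a * b = b * a := by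
  have h1 : (b * a)⁻¹ * (a * b) = 1 := by
    apply F.faith
    intro m
    rw [mul_smul, inv_smul_eq_iff]
    have h1 := F.cm_mul ha hb m
    have h2 := F.cm_mul hb ha m
    rw [add_comm] at h2
    exact sub_left_inj.1 (h1.trans h2.symm)
  exact (inv_mul_eq_one.1 h1).symm

theorem zm {v x : M} (hx : x ∈ AddSubgroup.zmultiples v) : x = 0 ∨ x = v := by
  obtain ⟨n, hn⟩ := hx
  have hn2 : n • v = x := hn
  rw [← hn2]
  rcases Int.even_or_odd n with ⟨k, hk⟩ | ⟨k, hk⟩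
  · left
    rw [hk, add_smul, F.two]
  · right
    rw [hk, add_smul, one_smul, two_mul, add_smul, F.two, zero_add]

/-- (COLL) -/
theorem coll {mu nu : M} (hm : mu ∈ Lam) (hn : nu ∈ Lam) (hU : nu ∈ U mu) (hne : nu ≠ mu) : nu + mu ∈ Lam := by
  by_cases h0 : nu = 0
  · rw [h0, zero_add]
    exact hm
  have h1 : nu ∉ AddSubgroup.zmultiples mu := fun h => (F.zm h).elim h0 hne
  obtain ⟨φ, h2, h3⟩ := exists_fun F.two h1
  obtain ⟨k, hk, hk'⟩ := F.f2 mu hm φ (h2 _ (AddSubgroup.mem_zmultiples mu))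
  have h4 := (hk' nu hU).2 (by rw [h3]; decide)
  rw [← h4]
  exact F.lam_smul k nu hn

end At

/-- the configuration `(λ, f, h)` -/
structure Cf (Lam : Set M) (U : M → AddSubgroup M) (lam : M) (f h : H) : Prop where
  mem : lam ∈ Lam
  hf : f ∈ Bt U lam
  f1 : f ≠ 1
  h1 : h ≠ 1
  odd : Odd (orderOf h)
  inv : f * h * f⁻¹ = h⁻¹

namespace Cf

variable {Lam : Set M} {U : M → AddSubgroup M} (F : At H Lam U) {lam : M} {f h : H} (c : Cf Lam U lam f h)
include F c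

theorem ff : f * f = 1 := F.sq c.hf

theorem f_inv : f⁻¹ = f := inv_eq_of_mul_eq_one_left (c.ff F)

theorem fh : f * h = h⁻¹ * f := by
  calc f * h = f * h * f⁻¹ * f := by group
    _ = h⁻¹ * f := by rw [c.inv]

theorem hf' : h * f = f * h⁻¹ := by
  have h2 : f * h⁻¹ = h * f := by
    calc f * h⁻¹ = f * (f * h * f⁻¹) := by rw [c.inv]
      _ = (f * f) * h * f⁻¹ := by group
      _ = h * f := by rw [c.ff F, one_mul, c.f_inv F]
  exact h2.symm

theorem mu_mem : h • lam ∈ Lam := F.lam_smul h lam c.mem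

theorem g_mem : h * f * h⁻¹ ∈ Bt U (h • lam) := F.conj_mem_Bt c.mem c.hf

theorem gf : h * f * h⁻¹ * f = h * h := by
  rw [mul_assoc h f, ← c.hf' F]
  calc h * (h * f) * f = h * h * (f * f) := by group
    _ = h * h := by rw [c.ff F, mul_one]

/-- (0) -/
theorem fix {x : M} (hx : x ∈ U (h • lam)) (hfx : f • x = x) : h • x = x ∧ x ∈ U lam := by
  have h1 : (h * h) • x = x := by
    rw [← c.gf F, mul_smul, hfx]
    exact (c.g_mem F).1 x hx
  have h2 := smul_eq_of_sq c.odd h1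
  refine ⟨h2, ?_⟩
  rw [← h2] at hx
  exact (F.mem_U_smul c.mem).1 hx

theorem lam_ne : h • lam ≠ lam := by
  intro e
  have h1 := c.g_mem F
  rw [e] at h1
  have h2 := mul_mem h1 c.hf
  rw [c.gf F] at h2
  have h3 := F.sq h2
  obtain ⟨n, hn⟩ := exists_pow_sq c.odd
  have h4 : h * h = 1 := by
    have h5 : (h * h) ^ n * (h * h) ^ n = 1 := by
      rw [← (Commute.refl (h * h)).mul_pow, h3, one_pow]
    rwa [hn] at h5
  rw [h4, one_pow] at hn
  exact c.h1 hn.symm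

theorem lam_notMem : lam ∉ U (h • lam) := fun hU =>
  c.lam_ne F (c.fix F hU (c.hf.1 lam (F.self lam c.mem))).1

theorem mu_ne : f • h • lam ≠ h • lam := by
  intro e
  have h1 := (c.fix F (F.self _ (c.mu_mem F)) e).1
  exact c.lam_ne F ((MulAction.injective h) h1)

/-- `f' = h f` interchanges `λ` and `μ` -/
theorem fp_lam : (h * f) • lam = h • lam := by rw [mul_smul, c.hf.1 lam (F.self lam c.mem)]

theorem fp_mu : (h * f) • h • lam = lam := by
  rw [c.hf' F, mul_smul, inv_smul_smul, c.hf.1 lam (F.self lam c.mem)]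

theorem fp_sq : (h * f) * (h * f) = 1 := by
  calc (h * f) * (h * f) = (h * f) * (f * h⁻¹) := by rw [c.hf' F]
    _ = h * (f * f) * h⁻¹ := by group
    _ = 1 := by rw [c.ff F]; group

theorem fp_inv : (h * f)⁻¹ = h * f := inv_eq_of_mul_eq_one_left (c.fp_sq F)

theorem fp_fp (m : M) : (h * f) • (h * f) • m = m := by rw [← mul_smul, c.fp_sq F, one_smul]

theorem fp_U {u : M} : (h * f) • u ∈ U (h • lam) ↔ u ∈ U lam := by
  have h1 := F.mem_U_smul (g := h * f) (u := u) c.mem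
  rwa [c.fp_lam F] at h1

theorem fp_U' {u : M} : (h * f) • u ∈ U lam ↔ u ∈ U (h • lam) := by
  have h1 := F.mem_U_smul (g := h * f) (u := u) (c.mu_mem F)
  rwa [c.fp_mu F] at h1

theorem card_U [Finite M] : Nat.card (U (h • lam)) = Nat.card (U lam) :=
  Nat.card_congr ⟨fun u => ⟨(h * f) • (u : M), (c.fp_U' F).2 u.2⟩, fun u => ⟨(h * f) • (u : M), (c.fp_U F).2 u.2⟩,
    fun u => Subtype.ext (c.fp_fp F u), fun u => Subtype.ext (c.fp_fp F u)⟩

end Cf

variable [Finite H] [Finite M]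

/-- a minimal exact subgroup `A ≤ B_λ` with `[M, A] ∩ Λ = ∅` -/
structure Atom (Lam : Set M) (U : M → AddSubgroup M) (lam : M) (A : Subgroup H) : Prop where
  mem : lam ∈ Lam
  le : A ≤ Bt U lam
  ex : Nat.card A * Nat.card (CM M A) = Nat.card M
  min : ∀ P : Subgroup H, P < A → P ≠ ⊥ → Nat.card P * Nat.card (CM M P) < Nat.card M
  free : ∀ x ∈ RM M A, x ∉ Lam
  no : ∀ B : Subgroup H, B ≤ Bt U lam → Nat.card B * Nat.card (CM M B) ≤ Nat.card M

namespace Atom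

variable {Lam : Set M} {U : M → AddSubgroup M} (F : At H Lam U) {lam : M} {A : Subgroup H} (t : Atom Lam U lam A)
include F t

omit F [Finite H] [Finite M] in
theorem RM_le : RM M A ≤ U lam := (AddSubgroup.closure_le _).2 (by
  rintro m ⟨x, hx, v, rfl⟩
  exact (t.le hx).2 v)

omit F [Finite H] [Finite M] in
theorem lam_notMem : lam ∉ RM M A := fun h => t.free _ h t.mem

/-- (1) -/
theorem one {x : M} (hx : x ∈ Lam) (hR : x ∈ RM M A ⊔ AddSubgroup.zmultiples lam) : x = lam := by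
  obtain ⟨r, hr, l, hl, rfl⟩ := AddSubgroup.mem_sup.1 hR
  rcases F.zm hl with rfl | rfl
  · rw [add_zero] at hx
    exact absurd hx (t.free r hr)
  · by_contra hne
    have hr0 : r ≠ 0 := fun e => hne (by rw [e, zero_add])
    have h1 : r ∉ AddSubgroup.zmultiples l := fun h => by
      rcases F.zm h with h | h
      · exact hr0 h
      · rw [h] at hr
        exact t.lam_notMem hr
    obtain ⟨φ, h2, h3⟩ := exists_fun F.two h1
    obtain ⟨k, hk, hk'⟩ := F.f2 l t.mem φ (h2 _ (AddSubgroup.mem_zmultiples l))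
    have h4 := (hk' r (t.RM_le hr)).2 (by rw [h3]; decide)
    rw [← h4] at hx
    have h5 := F.lam_smul k⁻¹ _ hx
    rw [inv_smul_smul] at h5
    exact t.free r hr h5

omit t [Finite H] [Finite M] in
/-- `a ↦ [x, a]` -/
def cmHom (hA : A ≤ Bt U lam) (x : M) : Additive A →+ M where
  toFun a := ((Additive.toMul a : A) : H) • x - x
  map_zero' := by
    change ((1 : A) : H) • x - x = 0
    rw [Subgroup.coe_one, one_smul, sub_self]
  map_add' a b := F.cm_mul (hA (Additive.toMul a).2) (hA (Additive.toMul b).2) x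

/-- `[x, A]` -/
def Tm (x : M) : AddSubgroup M := (cmHom F t.le x).range

theorem mem_Tm {x y : M} : y ∈ t.Tm F x ↔ ∃ a ∈ A, a • x - x = y := by
  constructor
  · rintro ⟨a, rfl⟩
    exact ⟨_, (Additive.toMul a).2, rfl⟩
  · rintro ⟨a, ha, rfl⟩
    exact ⟨Additive.ofMul ⟨a, ha⟩, rfl⟩

/-- `C_A(x)` -/
def Px (A : Subgroup H) (x : M) : Subgroup H := A ⊓ MulAction.stabilizer H x

theorem card_eq (x : M) : Nat.card (Px A x) * Nat.card (t.Tm F x) = Nat.card A := by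
  have h1 := (cmHom F t.le x).ker.card_mul_index
  rw [AddSubgroup.index_ker] at h1
  have h2 : Nat.card (cmHom F t.le x).ker = Nat.card (Px A x) := by
    refine Nat.card_congr ⟨fun a => ⟨((Additive.toMul (a : Additive A) : A) : H), (Additive.toMul (a : Additive A)).2, ?_⟩,
      fun a => ⟨Additive.ofMul ⟨(a : H), a.2.1⟩, ?_⟩, fun a => rfl, fun a => rfl⟩
    · have h3 : ((Additive.toMul (a : Additive A) : A) : H) • x - x = 0 := a.2
      exact sub_eq_zero.1 h3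
    · have h3 : (a : H) • x = x := a.2.2
      change (a : H) • x - x = 0
      rw [h3, sub_self]
  rw [h2] at h1
  exact h1

/-! ### (2) REG -/

section Reg

variable {f h : H} (c : Cf Lam U lam f h)

/-- `U_λ ∩ U_μ` -/
def Dd (U : M → AddSubgroup M) (lam : M) (h : H) : AddSubgroup M := U lam ⊓ U (h • lam)

omit t [Finite H] [Finite M] in
/-- `D^{f'} = D` -/
theorem fp_D (c : Cf Lam U lam f h) {d : M} (hd : d ∈ Dd U lam h) : (h * f) • d ∈ Dd U lam h :=
  ⟨(c.fp_U' F).2 hd.2, (c.fp_U F).2 hd.1⟩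

include c

omit t [Finite H] [Finite M] in
/-- `U_μ ∩ C_M(A) ≤ D` -/
theorem CM_U (hf : f ∈ A) {x : M} (hx : x ∈ U (h • lam)) (hA : x ∈ CM M A) : x ∈ Dd U lam h :=
  ⟨(c.fix F hx (hA f hf)).2, hx⟩

/-- the argument of (i), (ii): `e` moves `ν ∈ Λ` inside `U_ν`, along `[M, A] + ⟨λ⟩`, `U_μ`: then it fixes `ν` -/
theorem coll_fix {nu : M} (hn : nu ∈ Lam) {e : H} (h1 : e • nu - nu ∈ U nu)
    (h2 : e • nu - nu ∈ RM M A ⊔ AddSubgroup.zmultiples lam) (h3 : e • nu - nu ∈ U (h • lam)) : e • nu = nu := by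
  by_contra hne
  have h4 : e • nu ∈ U nu := by
    have h5 := add_mem h1 (F.self nu hn)
    rwa [sub_add_cancel] at h5
  have h5 := F.coll hn (F.lam_smul e nu hn) h4 hne
  rw [← F.sub_eq] at h5
  rw [t.one F h5 h2] at h3
  exact c.lam_notMem F h3

/-- (i) -/
theorem i_fix {e : H} (h1 : e • h • lam - h • lam ∈ U (h • lam))
    (h2 : e • h • lam - h • lam ∈ RM M A ⊔ AddSubgroup.zmultiples lam) : e • h • lam = h • lam :=
  t.coll_fix F c (c.mu_mem F) h1 h2 h1

/-- (ii) -/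
theorem ii_fix {e : H} (he : e ∈ Bt U lam) (hm : e • h • lam = h • lam)
    (h2 : ∀ m : M, e • m - m ∈ RM M A ⊔ AddSubgroup.zmultiples lam) {g : H} (hg : g ∈ Bt U (h • lam)) :
    e • (g • lam - lam) = g • lam - lam := by
  have hv : g • lam - lam ∈ U (h • lam) := hg.2 lam
  have hev : e • (g • lam - lam) ∈ U (h • lam) := by
    have h3 := F.u_smul e _ (c.mu_mem F) _ hv
    rwa [hm] at h3
  have h4 : e • (g • lam - lam) - (g • lam - lam) ∈ U (h • lam) := sub_mem hev hv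
  have h5 : e • g • lam - g • lam = e • (g • lam - lam) - (g • lam - lam) := by
    rw [smul_sub, he.1 lam (F.self lam t.mem)]
    abel
  have h6 : e • (g • lam - lam) - (g • lam - lam) ∈ U lam := he.2 _
  have h7 : e • (g • lam - lam) - (g • lam - lam) ∈ U (g • lam) := by
    have h8 := F.u_smul g lam t.mem _ h6
    rwa [hg.1 _ h4] at h8
  have h8 := t.coll_fix F c (nu := g • lam) (F.lam_smul g lam t.mem) (e := e) (by rwa [h5])
    (by rw [h5]; exact h2 _) (by rwa [h5])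
  rw [smul_sub, h8, he.1 lam (F.self lam t.mem)]

/-- `[μ, A] ∩ D = 0` -/
theorem Tm_D {v : M} (hv : v ∈ t.Tm F (h • lam)) (hD : v ∈ Dd U lam h) : v = 0 := by
  obtain ⟨a, ha, rfl⟩ := (t.mem_Tm F).1 hv
  have h1 := t.i_fix F c (e := a) hD.2 (AddSubgroup.mem_sup_left (sub_mem_RM ha _))
  rw [h1, sub_self]

omit c in
/-- `[λ, A^{f'}] = [μ, A]^{f'}` -/
def Tp (h : H) (x : H) : AddSubgroup M := (t.Tm F (h • lam)).map (DistribSMul.toAddMonoidHom M x)

omit c in
theorem mem_Tp {x : H} {v : M} : v ∈ t.Tp F h x ↔ ∃ a ∈ A, x • (a • h • lam - h • lam) = v := by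
  constructor
  · rintro ⟨w, hw, rfl⟩
    obtain ⟨a, ha, rfl⟩ := (t.mem_Tm F).1 hw
    exact ⟨a, ha, rfl⟩
  · rintro ⟨a, ha, rfl⟩
    exact ⟨_, (t.mem_Tm F).2 ⟨a, ha, rfl⟩, rfl⟩

omit c in
theorem card_Tp (x : H) : Nat.card (t.Tp F h x) = Nat.card (t.Tm F (h • lam)) :=
  Nat.card_congr ((t.Tm F (h • lam)).equivMapOfInjective _ (MulAction.injective x)).symm.toEquiv

/-- `[λ, A^{f'}]` consists of the `[λ, g]`, `g ∈ B_μ` -/
theorem Tp_bt {v : M} (hv : v ∈ t.Tp F h (h * f)) : ∃ g : H, g ∈ Bt U (h • lam) ∧ v = g • lam - lam := by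
  obtain ⟨a, ha, rfl⟩ := (t.mem_Tp F).1 hv
  refine ⟨h * f * a * (h * f)⁻¹, ?_, ?_⟩
  · have h1 := F.conj_mem_Bt (k := h * f) c.mem (t.le ha)
    rwa [c.fp_lam F] at h1
  · rw [smul_sub, c.fp_mu F, c.fp_inv F, mul_smul (h * f * a), c.fp_lam F, mul_smul (h * f)]

theorem Tp_le : t.Tp F h (h * f) ≤ U (h • lam) := fun v hv => by
  obtain ⟨g, hg, rfl⟩ := t.Tp_bt F c hv
  exact hg.2 lam

theorem Tp_D {v : M} (hv : v ∈ t.Tp F h (h * f)) (hD : v ∈ Dd U lam h) : v = 0 := by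
  obtain ⟨w, hw, rfl⟩ := hv
  have h1 := fp_D F c hD
  have h2 : (h * f) • (h * f) • w = w := c.fp_fp F w
  have h3 : w ∈ Dd U lam h := by
    rw [← h2]
    exact h1
  rw [t.Tm_D F c hw h3, map_zero]

theorem card_Z : Nat.card (Dd U lam h ⊔ t.Tp F h (h * f) : AddSubgroup M) =
    Nat.card (Dd U lam h) * Nat.card (t.Tm F (h • lam)) := by
  have h1 := card_sup_mul (Dd U lam h) (t.Tp F h (h * f))
  have h2 : Dd U lam h ⊓ t.Tp F h (h * f) = ⊥ := (AddSubgroup.eq_bot_iff_forall _).2 fun v hv => t.Tp_D F c hv.2 hv.1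
  rw [h2, t.card_Tp F] at h1
  rw [h1, AddSubgroup.card_bot, mul_one]

/-- `D + [λ, B_μ]` is centralised by `e` -/
theorem Z_fix {e : H} (he : e ∈ Bt U lam) (hm : e • h • lam = h • lam)
    (h2 : ∀ m : M, e • m - m ∈ RM M A ⊔ AddSubgroup.zmultiples lam) {v : M}
    (hv : v ∈ (Dd U lam h ⊔ t.Tp F h (h * f) : AddSubgroup M)) : e • v = v := by
  obtain ⟨d, hd, w, hw, rfl⟩ := AddSubgroup.mem_sup.1 hv
  obtain ⟨g, hg, rfl⟩ := t.Tp_bt F c hw
  rw [smul_add, he.1 d hd.1, t.ii_fix F c he hm h2 hg]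

/-- (iii) -/
theorem P_bot (hf : f ∈ A) : Px A (h • lam) = ⊥ := by
  by_contra hne
  have hlt : Px A (h • lam) < A := by
    refine lt_of_le_of_ne inf_le_left fun e => ?_
    rw [← e] at hf
    exact c.mu_ne F hf.2
  have h1 := t.min _ hlt hne
  have h2 : Nat.card (Dd U lam h ⊔ t.Tp F h (h * f) : AddSubgroup M) * Nat.card (CM M A) ≤
      Nat.card (Dd U lam h) * Nat.card (CM M (Px A (h • lam))) := by
    apply card_mul_le
    · intro v hv b hb
      exact t.Z_fix F c (t.le hb.1) hb.2 (fun m => AddSubgroup.mem_sup_left (sub_mem_RM hb.1 m)) hv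
    · intro v hv b hb
      exact hv b hb.1
    · rintro v ⟨hv, hA⟩
      exact CM_U F c hf ((sup_le inf_le_right (t.Tp_le F c) : _ ≤ U (h • lam)) hv) hA
  rw [t.card_Z F c, mul_assoc] at h2
  have h3 : Nat.card (t.Tm F (h • lam)) * Nat.card (CM M A) ≤ Nat.card (CM M (Px A (h • lam))) :=
    Nat.le_of_mul_le_mul_left h2 Nat.card_pos
  rw [← t.ex, ← t.card_eq F (h • lam), mul_assoc] at h1
  exact absurd (Nat.mul_le_mul_left _ h3) (not_le.2 h1)

theorem card_A (hf : f ∈ A) : Nat.card (t.Tm F (h • lam)) = Nat.card A := by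
  have h1 := t.card_eq F (h • lam)
  rwa [t.P_bot F c hf, Subgroup.card_bot, one_mul] at h1

/-- **REG** (a) : `a ∈ A` moving `μ` inside `U_μ` is trivial -/
theorem reg_one (hf : f ∈ A) {a : H} (ha : a ∈ A) (h1 : a • h • lam - h • lam ∈ U (h • lam)) : a = 1 := by
  have h2 := t.i_fix F c h1 (AddSubgroup.mem_sup_left (sub_mem_RM ha _))
  have h3 : a ∈ Px A (h • lam) := ⟨ha, h2⟩
  rw [t.P_bot F c hf] at h3
  exact Subgroup.mem_bot.1 h3

/-- **REG** (b) : `|U_μ| ≤ |D| |A|` -/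
theorem reg_card_le (hf : f ∈ A) : Nat.card (U (h • lam)) ≤ Nat.card (Dd U lam h) * Nat.card A := by
  have h1 := card_mul_le (X := U (h • lam)) (Y := CM M A) (Z := ⊤) (D := Dd U lam h) le_top le_top
    (fun v hv => CM_U F c hf hv.1 hv.2)
  rw [Nat.card_congr (AddSubgroup.topEquiv (G := M)).toEquiv, ← t.ex, ← mul_assoc] at h1
  exact Nat.le_of_mul_le_mul_right h1 Nat.card_pos

/-- **REG** (c) : `D + [μ, A] = U_λ` -/
theorem reg_sup (hf : f ∈ A) : Dd U lam h ⊔ t.Tm F (h • lam) = U lam := by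
  have h1 := card_sup_mul (Dd U lam h) (t.Tm F (h • lam))
  have h2 : Dd U lam h ⊓ t.Tm F (h • lam) = ⊥ := (AddSubgroup.eq_bot_iff_forall _).2 fun v hv => t.Tm_D F c hv.2 hv.1
  rw [h2, AddSubgroup.card_bot, mul_one, t.card_A F c hf] at h1
  refine eq_of_card_le (sup_le inf_le_left ?_) ?_
  · intro v hv
    obtain ⟨a, ha, rfl⟩ := (t.mem_Tm F).1 hv
    exact (t.le ha).2 _
  · rw [← h1, ← c.card_U F]
    exact t.reg_card_le F c hf

theorem reg_card (hf : f ∈ A) : Nat.card (U (h • lam)) = Nat.card (Dd U lam h) * Nat.card A := by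
  refine le_antisymm (t.reg_card_le F c hf) ?_
  rw [c.card_U F, ← t.reg_sup F c hf, ← t.card_A F c hf]
  have h1 := card_sup_mul (Dd U lam h) (t.Tm F (h • lam))
  rw [h1]
  refine Nat.le_of_eq ?_
  have h2 : Dd U lam h ⊓ t.Tm F (h • lam) = ⊥ := (AddSubgroup.eq_bot_iff_forall _).2 fun v hv => t.Tm_D F c hv.2 hv.1
  rw [h2, AddSubgroup.card_bot, mul_one]

/-- the same on the other side: `D + [λ, A^{f'}] = U_μ` -/
theorem reg_sup' (hf : f ∈ A) : Dd U lam h ⊔ t.Tp F h (h * f) = U (h • lam) := by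
  refine eq_of_card_le (sup_le inf_le_right (t.Tp_le F c)) ?_
  rw [t.card_Z F c, t.card_A F c hf]
  exact t.reg_card_le F c hf

/-- **REG** (d) : `U_μ + C_M(A) = M` -/
theorem reg_top (hf : f ∈ A) (m : M) : m ∈ U (h • lam) ⊔ CM M A := by
  have h1 := card_sup_mul (U (h • lam)) (CM M A)
  have h2 : U (h • lam) ⊓ CM M A = Dd U lam h := by
    apply le_antisymm
    · exact fun v hv => CM_U F c hf hv.1 hv.2
    · exact fun v hv => ⟨hv.2, fun a ha => (t.le ha).1 v hv.1⟩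
  rw [h2, t.reg_card F c hf, mul_assoc, t.ex, mul_comm] at h1
  have h3 := Nat.eq_of_mul_eq_mul_right Nat.card_pos h1
  have h4 : U (h • lam) ⊔ CM M A = ⊤ := eq_of_card_le le_top (by
    rw [← h3, Nat.card_congr (AddSubgroup.topEquiv (G := M)).toEquiv])
  rw [h4]
  exact AddSubgroup.mem_top m

end Reg

/-- (3) -/
theorem fix_CM {a : H} (ha : a ∈ A) (h1 : a ≠ 1) {m : M} (hm : a • m = m) : m ∈ CM M A := by
  obtain ⟨h, h2, h3, h4⟩ := F.bs lam t.mem a (t.le ha) h1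
  have c : Cf Lam U lam a h := ⟨t.mem, t.le ha, h1, h2, h3, h4⟩
  obtain ⟨u, hu, v, hv, rfl⟩ := AddSubgroup.mem_sup.1 (t.reg_top F c ha m)
  rw [smul_add, hv a ha, add_left_inj] at hm
  have h5 := (c.fix F hu hm).2
  exact add_mem (fun b hb => (t.le hb).1 u h5) hv

/-! ### (4) -/

/-- `k` induces `φ` on `U_λ` -/
structure Ind (U : M → AddSubgroup M) (lam : M) (φ : M →+ ZMod 2) (k : H) : Prop where
  lam0 : φ lam = 0
  fix : k • lam = lam
  z : ∀ u ∈ U lam, φ u = 0 → k • u = u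
  nz : ∀ u ∈ U lam, φ u ≠ 0 → k • u = u + lam

omit F t [Finite H] [Finite M] in
theorem smul_mem_RM {k : H} {X : Subgroup H} {v : M} (hv : v ∈ RM M X) : k • v ∈ RM M (cg k X) := by
  induction hv using AddSubgroup.closure_induction with
  | mem x hx =>
    obtain ⟨a, ha, w, rfl⟩ := hx
    rw [smul_sub]
    have h1 : k • a • w = (k * a * k⁻¹) • k • w := by rw [mul_smul, mul_smul, inv_smul_smul]
    rw [h1]
    exact sub_mem_RM (conj_mem_cg ha) _
  | zero => rw [smul_zero]; exact zero_mem _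
  | add x y _ _ hx hy => rw [smul_add]; exact add_mem hx hy
  | neg x _ hx => rw [smul_neg]; exact neg_mem hx

omit F t [Finite H] [Finite M] in
theorem mem_RM_cg {k : H} {X : Subgroup H} {v : M} : v ∈ RM M (cg k X) ↔ k⁻¹ • v ∈ RM M X := by
  constructor
  · intro h
    have h1 := smul_mem_RM (k := k⁻¹) h
    rwa [cg_cg, inv_mul_cancel, cg_one] at h1
  · intro h
    have h1 := smul_mem_RM (k := k) h
    rwa [smul_inv_smul] at h1

omit F t [Finite H] [Finite M] in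
theorem cm_mem {X : Subgroup H} {x : H} (hx : x ∈ X) (m : M) : x • m - m ∈ RM M X := sub_mem_RM hx m

variable {φ : M →+ ZMod 2} {k : H} (i : Ind U lam φ k)

include i

omit F [Finite H] [Finite M] in
theorem RMphi {v : M} (hv : v ∈ RM M (cg k A)) :
    ∃ r ∈ RM M A, (φ r = 0 ∧ v = r) ∨ (φ r ≠ 0 ∧ v = r + lam) := by
  have h1 := mem_RM_cg.1 hv
  refine ⟨_, h1, ?_⟩
  have h2 := t.RM_le h1
  by_cases h0 : φ (k⁻¹ • v) = 0
  · left
    have h3 := i.z _ h2 h0
    rw [smul_inv_smul] at h3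
    exact ⟨h0, h3⟩
  · right
    have h3 := i.nz _ h2 h0
    rw [smul_inv_smul] at h3
    exact ⟨h0, h3⟩

omit F [Finite H] [Finite M] in
theorem RMphi_le {v : M} (hv : v ∈ RM M (cg k A)) : v ∈ RM M A ⊔ AddSubgroup.zmultiples lam := by
  obtain ⟨r, hr, ⟨_, rfl⟩ | ⟨_, rfl⟩⟩ := t.RMphi i hv
  · exact AddSubgroup.mem_sup_left hr
  · exact add_mem (AddSubgroup.mem_sup_left hr) (AddSubgroup.mem_sup_right (AddSubgroup.mem_zmultiples _))

omit F [Finite H] [Finite M] in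
/-- `[M, A] ∩ [M, A_φ] ≤ ker φ` -/
theorem RMphi_zero {v : M} (hv : v ∈ RM M (cg k A)) (hv' : v ∈ RM M A) : φ v = 0 := by
  obtain ⟨r, hr, ⟨h0, rfl⟩ | ⟨_, rfl⟩⟩ := t.RMphi i hv
  · exact h0
  · have h1 := sub_mem hv' hr
    rw [add_sub_cancel_left] at h1
    exact absurd h1 t.lam_notMem

omit t [Finite H] [Finite M] in
theorem cg_le (t : Atom Lam U lam A) : cg k A ≤ Bt U lam := fun x hx => by
  have h1 := F.conj_mem_Bt (k := k) t.mem (t.le (mem_cg.1 hx))
  rw [i.fix] at h1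
  have e : k * (k⁻¹ * x * k) * k⁻¹ = x := by group
  rwa [e] at h1

omit F i [Finite H] [Finite M] in
theorem min_cg (k : H) (P : Subgroup H) (h1 : P < cg k A) (h2 : P ≠ ⊥) :
    Nat.card P * Nat.card (CM M P) < Nat.card M := by
  have e : cg k (cg k⁻¹ P) = P := by rw [cg_cg, mul_inv_cancel, cg_one]
  have h3 : cg k⁻¹ P < A := by
    refine lt_of_le_of_ne (fun x hx => ?_) (fun h => ?_)
    · have h4 := mem_cg.1 (h1.le (mem_cg.1 hx))
      have e2 : k⁻¹ * (k⁻¹⁻¹ * x * k⁻¹) * k = x := by group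
      rwa [e2] at h4
    · rw [h] at e
      exact h1.ne e.symm
  have h4 : cg k⁻¹ P ≠ ⊥ := fun h => h2 (by
    rw [← e, h]
    ext x
    rw [mem_cg, Subgroup.mem_bot, Subgroup.mem_bot]
    constructor
    · intro h5
      have h6 := congrArg (fun y => k * y * k⁻¹) h5
      simpa [mul_assoc] using h6
    · rintro rfl
      simp)
  have h5 := t.min _ h3 h4
  rwa [card_cg, card_CM_cg] at h5

variable {f h : H} (c : Cf Lam U lam f h)
include c

/-- every `b ∈ A_φ` acts on `U_μ` as an element of `A` -/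
theorem act (hf : f ∈ A) {b : H} (hb : b ∈ cg k A) : ∃ a ∈ A, ∀ u ∈ U (h • lam), b • u = a • u := by
  have hb' := cg_le F i t hb
  have h1 := hb'.2 (h • lam)
  rw [← t.reg_sup F c hf] at h1
  obtain ⟨d, hd, w, hw, h2⟩ := AddSubgroup.mem_sup.1 h1
  obtain ⟨a, ha, rfl⟩ := (t.mem_Tm F).1 hw
  refine ⟨a, ha, fun u hu => ?_⟩
  have h3 : ∀ m : M, (a * b) • m - m ∈ RM M A ⊔ AddSubgroup.zmultiples lam := fun m => by
    rw [F.cm_mul (t.le ha) hb']
    exact add_mem (AddSubgroup.mem_sup_left (sub_mem_RM ha _)) (t.RMphi_le i (sub_mem_RM hb _))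
  have h4 : (a * b) • h • lam - h • lam = d := by
    rw [F.cm_mul (t.le ha) hb', ← h2]
    have e : (a • h • lam - h • lam) + (d + (a • h • lam - h • lam)) =
        ((a • h • lam - h • lam) + (a • h • lam - h • lam)) + d := by abel
    rw [e, F.two, zero_add]
  have h5 := t.i_fix F c (e := a * b) (by rw [h4]; exact hd.2) (h3 _)
  have h6 := t.Z_fix F c (mul_mem (t.le ha) hb') h5 h3 (v := u) (by rwa [t.reg_sup' F c hf])
  rw [mul_smul] at h6
  have h7 : a⁻¹ = a := inv_eq_of_mul_eq_one_left (F.sq (t.le ha))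
  rw [← h7, eq_inv_smul_iff]
  exact h6

/-- **(4)** : if `φ ≠ 0` on `[μ, A]`, then `A_φ` centralises `U_μ` -/
theorem cent (hf : f ∈ A) {a₀ : H} (ha₀ : a₀ ∈ A) (h₀ : φ (a₀ • h • lam - h • lam) ≠ 0) {b : H} (hb : b ∈ cg k A)
    {u : M} (hu : u ∈ U (h • lam)) : b • u = u := by
  choose! α hα hα' using fun b hb => t.act F i c hf (b := b) hb
  let A0 : Subgroup H :=
    { carrier := {x | x ∈ cg k A ∧ ∀ u ∈ U (h • lam), x • u = u}
      one_mem' := ⟨one_mem _, fun u _ => one_smul H u⟩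
      mul_mem' := fun {x y} hx hy => ⟨mul_mem hx.1 hy.1, fun u hu => by rw [mul_smul, hy.2 u hu, hx.2 u hu]⟩
      inv_mem' := fun {x} hx => ⟨inv_mem hx.1, fun u hu => by rw [inv_smul_eq_iff, hx.2 u hu]⟩ }
  have hle : A0 ≤ cg k A := fun x hx => hx.1
  by_cases heq : A0 = cg k A
  · rw [← heq] at hb
    exact hb.2 u hu
  exfalso
  have hlt := lt_of_le_of_ne hle heq
  by_cases hbot : A0 = ⊥
  · -- `α : A_φ → A` is injective, so onto
    have hinj : Function.Injective (fun x : cg k A => (⟨α x, hα x x.2⟩ : A)) := by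
      rintro ⟨x, hx⟩ ⟨y, hy⟩ hxy
      have h1 : α x = α y := congrArg Subtype.val hxy
      have h2 : y⁻¹ * x ∈ A0 := ⟨mul_mem (inv_mem hy) hx, fun u hu => by
        rw [mul_smul, hα' x hx u hu, h1, ← hα' y hy u hu, inv_smul_smul]⟩
      rw [hbot, Subgroup.mem_bot, inv_mul_eq_one] at h2
      exact Subtype.ext h2.symm
    have hbij := hinj.bijective_of_nat_card_le (by rw [card_cg])
    obtain ⟨⟨x, hx⟩, hx'⟩ := hbij.2 ⟨a₀, ha₀⟩
    have h1 : α x = a₀ := congrArg Subtype.val hx'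
    have h2 := hα' x hx _ (F.self _ (c.mu_mem F))
    rw [h1] at h2
    refine h₀ (t.RMphi_zero i ?_ (sub_mem_RM ha₀ _))
    rw [← h2]
    exact sub_mem_RM hx _
  · have h1 := t.min_cg k A0 hlt hbot
    obtain ⟨b₁, hb₁, hb₁'⟩ := SetLike.exists_of_lt hlt
    have h2 : α b₁ ≠ 1 := fun e => hb₁' ⟨hb₁, fun u hu => by rw [hα' b₁ hb₁ u hu, e, one_smul]⟩
    have h3 := card_mul_le (X := U (h • lam)) (Y := CM M (cg k A)) (Z := CM M A0) (D := Dd U lam h)
      (fun v hv x hx => hx.2 v hv) (fun v hv x hx => hv x hx.1) (by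
        rintro v ⟨hv, hv'⟩
        have h4 := hv' b₁ hb₁
        rw [hα' b₁ hb₁ v hv] at h4
        exact CM_U F c hf hv (t.fix_CM F (hα b₁ hb₁) h2 h4))
    rw [t.reg_card F c hf, card_CM_cg, mul_assoc, t.ex] at h3
    have h4 := Nat.le_of_mul_le_mul_left h3 Nat.card_pos
    have h5 : 1 ≤ Nat.card A0 := Nat.card_pos
    have h6 := Nat.mul_le_mul h5 h4
    rw [one_mul] at h6
    exact absurd h6 (not_le.2 h1)

/-! ### (5) -/

/-- the hypothesis of (5): `A_φ` centralises `U_μ` -/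
theorem CM_ge (hc : ∀ b ∈ cg k A, ∀ u ∈ U (h • lam), b • u = u) :
    U lam ≤ CM M (cg k A) ∧ U (h • lam) ≤ CM M (cg k A) :=
  ⟨fun u hu _ hb => (cg_le F i t hb).1 u hu, fun u hu b hb => hc b hb u hu⟩

omit c in
/-- `C_{B_λ}(C_M(A_φ)) = A_φ` -/
theorem mem_cg_of {b : H} (hb : b ∈ Bt U lam) (h1 : ∀ m ∈ CM M (cg k A), b • m = m) : b ∈ cg k A := by
  let X : Subgroup H :=
    { carrier := {x | x ∈ Bt U lam ∧ ∀ m ∈ CM M (cg k A), x • m = m}
      one_mem' := ⟨one_mem _, fun u _ => one_smul H u⟩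
      mul_mem' := fun {x y} hx hy => ⟨mul_mem hx.1 hy.1, fun u hu => by rw [mul_smul, hy.2 u hu, hx.2 u hu]⟩
      inv_mem' := fun {x} hx => ⟨inv_mem hx.1, fun u hu => by rw [inv_smul_eq_iff, hx.2 u hu]⟩ }
  have h2 : cg k A ≤ X := fun x hx => ⟨cg_le F i t hx, fun m hm => hm x hx⟩
  have h3 := t.no X fun x hx => hx.1
  have h4 : Nat.card (CM M (cg k A)) ≤ Nat.card (CM M X) :=
    Nat.card_mono (Set.toFinite _) fun m hm x hx => hx.2 m hm
  have h5 : Nat.card X ≤ Nat.card (cg k A) := by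
    have h6 := (Nat.mul_le_mul_left (Nat.card X) h4).trans h3
    rw [← t.ex, ← card_cg k A, ← card_CM_cg k A] at h6
    exact Nat.le_of_mul_le_mul_right h6 Nat.card_pos
  have h6 : cg k A = X := Subgroup.eq_of_le_of_card_ge h2 h5
  rw [h6]
  exact ⟨hb, h1⟩

/-- `C_M(A_φ)` is invariant under `f'` -/
theorem inv_C (hc : ∀ b ∈ cg k A, ∀ u ∈ U (h • lam), b • u = u) (m : M) :
    (h * f) • m ∈ CM M (cg k A) ↔ m ∈ CM M (cg k A) := by
  obtain ⟨hU, hU'⟩ := t.CM_ge F i c hc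
  let N : Subgroup H :=
    { carrier := {x | ∀ m : M, x • m ∈ CM M (cg k A) ↔ m ∈ CM M (cg k A)}
      one_mem' := fun m => by rw [one_smul]
      mul_mem' := fun {x y} hx hy m => by rw [mul_smul, hx, hy]
      inv_mem' := fun {x} hx m => by rw [← hx (x⁻¹ • m), smul_inv_smul] }
  have hN : ∀ x : H, (∀ m : M, x • m - m ∈ CM M (cg k A)) → x ∈ N := fun x hx m => by
    constructor
    · intro h1
      have h2 := sub_mem h1 (hx m)
      rwa [sub_sub_cancel] at h2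
    · intro h1
      have h2 := add_mem (hx m) h1
      rwa [sub_add_cancel] at h2
  have h1 : f ∈ N := hN f fun m => hU (c.hf.2 m)
  have h2 : h * f * h⁻¹ ∈ N := hN _ fun m => hU' ((c.g_mem F).2 m)
  have h3 := mul_mem h2 h1
  rw [c.gf F] at h3
  obtain ⟨n, hn⟩ := exists_pow_sq c.odd
  have h4 := pow_mem h3 n
  rw [hn] at h4
  exact (mul_mem h4 h1) m

/-- **(5)** -/
theorem five (hc : ∀ b ∈ cg k A, ∀ u ∈ U (h • lam), b • u = u) {b y : H} (hb : b ∈ cg k A)
    (hy : y ∈ Bt U (h • lam)) (m : M) : y • (b • m - m) - (b • m - m) ∈ RM M (cg (h * f) (cg k A)) := by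
  obtain ⟨hU, hU'⟩ := t.CM_ge F i c hc
  have hbm : b • h • lam = h • lam := hc b hb _ (F.self _ (c.mu_mem F))
  have hz : y * (b * y⁻¹ * b⁻¹) ∈ Bt U (h • lam) := by
    have h1 := F.conj_mem_Bt (k := b) (c.mu_mem F) (inv_mem hy)
    rw [hbm] at h1
    exact mul_mem hy h1
  -- `z = y b y⁻¹ b⁻¹` is trivial on `C_φ`
  have hzC : ∀ x ∈ CM M (cg k A), (y * (b * y⁻¹ * b⁻¹)) • x = x := fun x hx => by
    have h1 : y⁻¹ • x ∈ CM M (cg k A) := by
      have h2 := add_mem (hU' ((inv_mem hy).2 x)) hx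
      rwa [sub_add_cancel] at h2
    rw [mul_smul, mul_smul, mul_smul, hx b⁻¹ (inv_mem hb), h1 b hb, smul_inv_smul]
  have hz' : y * (b * y⁻¹ * b⁻¹) ∈ cg (h * f) (cg k A) := by
    rw [mem_cg]
    refine t.mem_cg_of F i ?_ fun x hx => ?_
    · apply F.mem_Bt_conj t.mem
      rwa [c.fp_lam F]
    · rw [mul_smul, mul_smul, inv_smul_eq_iff]
      exact hzC _ ((t.inv_C F i c hc x).2 hx)
  have h1 : (y * (b * y⁻¹ * b⁻¹)) • b • y • m = y • b • m := by
    rw [← mul_smul, ← mul_smul, ← mul_smul]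
    congr 1
    group
  -- `b y m = m + w`
  have h2 : b • y • m = b • m + (y • m - m) := by
    have h3 := hc b hb _ (hy.2 m)
    rw [smul_sub] at h3
    rw [← h3]
    abel
  have h4 : b • y • m - m ∈ CM M (cg k A) := by
    have e : b • y • m - m = (b • m - m) + (y • m - m) := by rw [h2]; abel
    rw [e]
    exact add_mem (hU ((cg_le F i t hb).2 m)) (hU' (hy.2 m))
  have h5 := hzC _ h4
  rw [smul_sub, h1] at h5
  have h6 : y • (b • m - m) - (b • m - m) = (y * (b * y⁻¹ * b⁻¹)) • m - m := by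
    have h7 : (y * (b * y⁻¹ * b⁻¹)) • m = y • b • m - (b • y • m - m) := by rw [← h5]; abel
    rw [h7, h2, smul_sub]
    abel
  rw [h6]
  exact sub_mem_RM hz' m

/-- `[[M, A_φ] + D, A^{f'}] ≤ [M, A_φ]^{f'}` -/
theorem five' (hc : ∀ b ∈ cg k A, ∀ u ∈ U (h • lam), b • u = u) {y : H}
    (hy : y ∈ Bt U (h • lam)) {v : M} (hv : v ∈ (RM M (cg k A) ⊔ Dd U lam h : AddSubgroup M)) :
    y • v - v ∈ RM M (cg (h * f) (cg k A)) := by
  obtain ⟨r, hr, d, hd, rfl⟩ := AddSubgroup.mem_sup.1 hv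
  have e : y • (r + d) - (r + d) = y • r - r := by
    rw [smul_add, hy.1 d hd.2]
    abel
  rw [e]
  clear hv e
  induction hr using AddSubgroup.closure_induction with
  | mem x hx =>
    obtain ⟨b, hb, w, rfl⟩ := hx
    exact t.five F i c hc hb hy w
  | zero => rw [smul_zero, sub_zero]; exact zero_mem _
  | add x z _ _ hx hz =>
    have e : y • (x + z) - (x + z) = (y • x - x) + (y • z - z) := by rw [smul_add]; abel
    rw [e]
    exact add_mem hx hz
  | neg x _ hx =>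
    have e : y • (-x) - (-x) = -(y • x - x) := by rw [smul_neg]; abel
    rw [e]
    exact neg_mem hx

/-- if `φ ≠ 0` on `[μ, A]`, then `U_λ` is not contained in `[M, A_φ] + D` -/
theorem not_le' (hf : f ∈ A) {a₀ : H} (ha₀ : a₀ ∈ A) (h₀ : φ (a₀ • h • lam - h • lam) ≠ 0) :
    ¬ (U lam ≤ RM M (cg k A) ⊔ Dd U lam h) := by
  intro hle
  have hc : ∀ b ∈ cg k A, ∀ u ∈ U (h • lam), b • u = u := fun b hb u hu => t.cent F i c hf ha₀ h₀ hb hu
  -- `[M, A^{f'}] ≤ [M, A_φ]^{f'}`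
  have h1 : ∀ y ∈ cg (h * f) A, ∀ m : M, y • m - m ∈ RM M (cg (h * f) (cg k A)) := by
    intro y hy m
    have hyB : y ∈ Bt U (h • lam) := by
      have h2 := F.conj_mem_Bt (k := h * f) t.mem (t.le (mem_cg.1 hy))
      rw [c.fp_lam F] at h2
      have e : h * f * ((h * f)⁻¹ * y * (h * f)) * (h * f)⁻¹ = y := by group
      rwa [e] at h2
    obtain ⟨u, hu, v, hv, h3⟩ := AddSubgroup.mem_sup.1 (t.reg_top F c hf ((h * f) • m))
    have h4 : m = (h * f) • u + (h * f) • v := by rw [← smul_add, h3, c.fp_fp F]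
    have h5 : (h * f) • v ∈ CM M (cg (h * f) A) := by
      rw [mem_CM_cg, inv_smul_smul]
      exact hv
    have h6 : (h * f) • u ∈ U lam := (c.fp_U' F).2 hu
    have e : y • m - m = y • (h * f) • u - (h * f) • u := by
      rw [h4, smul_add, h5 y hy]
      abel
    rw [e]
    exact t.five' F i c hc hyB (hle h6)
  -- so `[M, A] ≤ [M, A_φ]`
  have h2 : a₀ • h • lam - h • lam ∈ RM M (cg k A) := by
    have h3 := h1 ((h * f) * a₀ * (h * f)⁻¹) (conj_mem_cg ha₀) ((h * f) • h • lam)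
    have h4 := (mem_RM_cg (k := h * f)).1 h3
    rw [smul_sub, mul_smul (h * f * a₀), inv_smul_smul, mul_smul (h * f), inv_smul_smul] at h4
    exact h4
  exact h₀ (t.RMphi_zero i h2 (sub_mem_RM ha₀ _))

omit i c

/-! ### (6) -/

omit [Finite H] [Finite M] in
theorem exists_ind (φ : M →+ ZMod 2) (h0 : φ lam = 0) : ∃ k : H, Ind U lam φ k := by
  obtain ⟨k, hk, hk'⟩ := F.f2 lam t.mem φ h0
  exact ⟨k, h0, hk, fun u hu h => (hk' u hu).1 h, fun u hu h => (hk' u hu).2 h⟩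

/-- **THEOREM ONE** : a minimal exact `A ≤ B_λ` with `[M, A] ∩ Λ = ∅` has order 2 -/
theorem card_eq_two (hne : A ≠ ⊥) : Nat.card A = 2 := by
  obtain ⟨⟨f, hf⟩, hf1⟩ := Subgroup.ne_bot_iff_exists_ne_one.1 hne
  have hf1' : f ≠ 1 := fun e => hf1 (Subtype.ext e)
  obtain ⟨h, h2, h3, h4⟩ := F.bs lam t.mem f (t.le hf) hf1'
  have c : Cf Lam U lam f h := ⟨t.mem, t.le hf, hf1', h2, h3, h4⟩
  have hA : 2 ≤ Nat.card A := Subgroup.one_lt_card_iff_ne_bot _ |>.2 hne
  by_contra hA2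
  have hA3 : 2 < Nat.card A := by omega
  have hlam := F.self lam t.mem
  rw [← t.reg_sup F c hf] at hlam
  obtain ⟨d₁, hd₁, c₁, hc₁, h1⟩ := AddSubgroup.mem_sup.1 hlam
  -- `c₂`
  obtain ⟨c₂, hc₂, hc20, hc21⟩ : ∃ c₂ ∈ t.Tm F (h • lam), c₂ ≠ 0 ∧ c₂ ≠ c₁ := by
    by_contra hcon
    push Not at hcon
    have h5 : (t.Tm F (h • lam) : Set M) ⊆ {0, c₁} := fun x hx => by
      by_cases hx0 : x = 0
      · exact Or.inl hx0
      · exact Or.inr (hcon x hx hx0)
    have h6 := Set.ncard_le_ncard h5 (Set.toFinite _)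
    have h7 : ({0, c₁} : Set M).ncard ≤ 2 := Set.ncard_insert_le _ _ |>.trans (by rw [Set.ncard_singleton])
    rw [← Nat.card_coe_set_eq] at h6
    have h8 := t.card_A F c hf
    have h9 : Nat.card (t.Tm F (h • lam)) ≤ 2 := h6.trans h7
    omega
  have hnot : c₂ ∉ (Dd U lam h ⊔ AddSubgroup.zmultiples c₁ : AddSubgroup M) := by
    intro h5
    obtain ⟨d, hd, z, hz, h6⟩ := AddSubgroup.mem_sup.1 h5
    have hz' : z ∈ t.Tm F (h • lam) := by
      rcases F.zm hz with rfl | rfl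
      · exact zero_mem _
      · exact hc₁
    have h7 : d = c₂ - z := by rw [← h6]; abel
    have h8 := t.Tm_D F c (v := d) (by rw [h7]; exact sub_mem hc₂ hz') hd
    rw [h8, zero_add] at h6
    rcases F.zm hz with h9 | h9
    · exact hc20 (h6.symm.trans h9)
    · exact hc21 (h6.symm.trans h9)
  obtain ⟨φ, hφ, hφ2⟩ := exists_fun F.two hnot
  have hφ1 : φ c₁ = 0 := hφ _ (AddSubgroup.mem_sup_right (AddSubgroup.mem_zmultiples c₁))
  have hφl : φ lam = 0 := by rw [← h1, map_add, hφ d₁ (AddSubgroup.mem_sup_left hd₁), hφ1, add_zero]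
  obtain ⟨k, i⟩ := t.exists_ind F φ hφl
  obtain ⟨a₂, ha₂, rfl⟩ := (t.mem_Tm F).1 hc₂
  refine t.not_le' F i c hf ha₂ (by rw [hφ2]; decide) fun u hu => ?_
  rw [← t.reg_sup F c hf] at hu
  obtain ⟨d, hd, w, hw, rfl⟩ := AddSubgroup.mem_sup.1 hu
  have hR : ∀ w ∈ t.Tm F (h • lam), w ∈ RM M A := fun w hw => by
    obtain ⟨a, ha, rfl⟩ := (t.mem_Tm F).1 hw
    exact sub_mem_RM ha _
  refine add_mem (AddSubgroup.mem_sup_right hd) ?_
  by_cases h0 : φ w = 0
  · have h5 := smul_mem_RM (k := k) (hR w hw)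
    rw [i.z w (t.RM_le (hR w hw)) h0] at h5
    exact AddSubgroup.mem_sup_left h5
  · have hw' := add_mem hw hc₁
    have h5 := smul_mem_RM (k := k) (hR _ hw')
    have h6 : φ (w + c₁) ≠ 0 := by rwa [map_add, hφ1, add_zero]
    rw [i.nz _ (t.RM_le (hR _ hw')) h6] at h5
    have h7 : w = (w + c₁ + lam) + d₁ := by
      rw [← h1]
      have e : w + c₁ + (d₁ + c₁) + d₁ = w + (c₁ + c₁) + (d₁ + d₁) := by abel
      rw [e, F.two, F.two, add_zero, add_zero]
    rw [h7]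
    exact add_mem (AddSubgroup.mem_sup_left h5) (AddSubgroup.mem_sup_right hd₁)

end Atom

/-- supplier of `At.bs` : `O₂(H) = 1` in the form 'no non-trivial normal 2-subgroup' -/
theorem bs_of (hO : ∀ N : Subgroup H, N.Normal → IsPGroup 2 N → N = ⊥) {f : H} (hff : f * f = 1) (hf1 : f ≠ 1) :
    ∃ h : H, h ≠ 1 ∧ Odd (orderOf h) ∧ f * h * f⁻¹ = h⁻¹ := by
  refine Involutions.BaerSuzuki.exists_odd_inverted f hff fun hP => hf1 ?_
  have h1 := hO _ (Subgroup.normalClosure_normal (s := {f})) hP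
  have h2 : f ∈ Subgroup.normalClosure {f} := Subgroup.subset_normalClosure (Set.mem_singleton f)
  rw [h1] at h2
  exact Subgroup.mem_bot.1 h2

end Cfsg.Agent.Omega.NO3S.TwoFar.AtomOne
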