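import Cfsg.Agent.Omega.NO3S.Pt.Plug
import Cfsg.Agent.Omega.NOThree.LemmaM

/-!
# NO-3S, `|V_P| = 4`: the instance `Pt.Fr ⟹ Pts.Geom` (`s = 2`)

* `PT V` : the points (the involutions of the conjugates of `V`), `LT V` : the conjugates of `V`, with the
  conjugation actions (`PT.smul_val`, `LT.smul_val`); `inc x l := x ∈ l`, `RR x = ⟨x⟩`, `WS x = W_x`, `VL l = l`;
* `geom` : `Pt.Fr T V z` gives `NOThree.Pts.Geom inc RR WS VL 2 t`, `t = |W_z : ii V|`;
* `walk_iff`, `com_iff'`, `crit_iff` : walks, commuting, critical pairs in both languages;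
* `stab_eq` : the stabiliser of the point `x` is `C_G(x)`;
* `exists_crit` : from `Hyp S P`, `|V_P| = 4`, (F1) and a critical pair of cosets.
-/

set_option autoImplicit false

namespace Cfsg.Agent.Omega.NO3S.TwoFar

open Subgroup Cfsg Cfsg.Agent.ZN Cfsg.Agent.MinSimple.Geo Cfsg.Agent.Omega.CaseL Cfsg.Agent.Omega.NO3S.TwoOne
open Cfsg.Agent.Omega.NO3S.Pt
open Cfsg.Agent.Omega.NOThree (Pts.Geom)
open Cfsg.Agent.ZN.Block (conj_mem_of_normalizer conj_mem_of_normalizer' le_normalizer_of_forall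
  mem_normalizer_of)

universe u

variable {G : Type u} [Group G]

/-- the points -/
def PT (V : Subgroup G) : Type u := {x : G // Col V x x}

/-- the lines -/
def LT (V : Subgroup G) : Type u := {l : Subgroup G // ∃ g : G, l = cj g V}

instance (V : Subgroup G) : MulAction G (PT V) where
  smul g x := ⟨g * x.1 * g⁻¹, x.2.conj g⟩
  one_smul x := Subtype.ext (by change 1 * x.1 * 1⁻¹ = x.1; group)
  mul_smul g h x := Subtype.ext (by
    change g * h * x.1 * (g * h)⁻¹ = g * (h * x.1 * h⁻¹) * g⁻¹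
    group)

instance (V : Subgroup G) : MulAction G (LT V) where
  smul g l := ⟨cj g l.1, by obtain ⟨k, hk⟩ := l.2; exact ⟨g * k, by rw [hk, cj_cj]⟩⟩
  one_smul l := Subtype.ext (cj_one _)
  mul_smul g h l := Subtype.ext (cj_cj g h l.1).symm

theorem PT.smul_val {V : Subgroup G} (g : G) (x : PT V) : (g • x).1 = g * x.1 * g⁻¹ := rfl

theorem LT.smul_val {V : Subgroup G} (g : G) (l : LT V) : (g • l).1 = cj g l.1 := rfl

theorem PT.ext {V : Subgroup G} {x y : PT V} (h : x.1 = y.1) : x = y := Subtype.ext h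

theorem LT.ext {V : Subgroup G} {x y : LT V} (h : x.1 = y.1) : x = y := Subtype.ext h

/-- incidence -/
def inc {V : Subgroup G} (x : PT V) (l : LT V) : Prop := x.1 ∈ l.1

/-- the point as a subgroup -/
def RR {V : Subgroup G} (x : PT V) : Subgroup G := zpowers x.1

/-- `W_x` -/
def WS {V : Subgroup G} (x : PT V) : Subgroup G := ws V x.1

/-- the line as a subgroup -/
def VL {V : Subgroup G} (l : LT V) : Subgroup G := l.1

theorem PT.ne_one {V : Subgroup G} (x : PT V) : x.1 ≠ 1 := x.2.ne_one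

/-- a point from a nontrivial element of a line -/
def pt {V : Subgroup G} {g x : G} (hx : x ∈ cj g V) (hx1 : x ≠ 1) : PT V := ⟨x, g, hx, hx, hx1, hx1⟩

/-- a line -/
def ln (V : Subgroup G) (g : G) : LT V := ⟨cj g V, g, rfl⟩

section

variable {T V : Subgroup G} {z : G}

theorem mem_RR (h : Fr T V z) {x : PT V} {a : G} : a ∈ RR x ↔ a = 1 ∨ a = x.1 :=
  mem_zpowers_iff_of_mul_self (h.pt_sq x.2)

theorem cj_ii (g : G) (V : Subgroup G) : cj g (ii V) = ii (cj g V) := by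
  have key : ∀ (g : G) (V : Subgroup G), cj g (ii V) ≤ ii (cj g V) := by
    intro g V u hu p hp hp1
    rw [mem_cj] at hu hp
    have hp1' : g⁻¹ * p * g ≠ 1 := fun e => hp1 (by
      have : p = g * (g⁻¹ * p * g) * g⁻¹ := by group
      rw [this, e]; group)
    have h1 := conj_mem_ws g (hu _ hp hp1')
    have e1 : g * (g⁻¹ * u * g) * g⁻¹ = u := by group
    have e2 : g * (g⁻¹ * p * g) * g⁻¹ = p := by group
    rw [e1, e2] at h1
    rwa [ws_cj]
  refine le_antisymm (key g V) ?_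
  have := key g⁻¹ (cj g V)
  rwa [cj_inv_cj, cj_le_iff, inv_inv] at this

/-- `W_x ∩ W_y = I_l` -/
theorem inf_eq (h : Fr T V z) {l : LT V} {x y : PT V} (hx : inc x l) (hy : inc y l) (hxy : x ≠ y) :
    WS x ⊓ WS y = ii l.1 := by
  obtain ⟨g, hg⟩ := l.2
  have hx' : x.1 ∈ cj g V := hg ▸ hx
  have hy' : y.1 ∈ cj g V := hg ▸ hy
  rw [hg]
  refine le_antisymm (fun u hu => ?_) (le_inf (h.ii_cj_le hx' x.ne_one) (h.ii_cj_le hy' y.ne_one))
  exact h.mem_ii_cj hx' x.ne_one hy' y.ne_one (fun e => hxy (PT.ext e.symm)) hu.1 hu.2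

theorem index_eq (h : Fr T V z) {l : LT V} {x : PT V} (hx : inc x l) :
    (ii l.1).relIndex (WS x) = (ii V).relIndex (ws V z) := by
  obtain ⟨g, hg⟩ := l.2
  have hx' : x.1 ∈ cj g V := hg ▸ hx
  obtain ⟨k, hk, hkz, -⟩ := h.flag hx' x.ne_one
  rw [hg, ← hk, ← cj_ii]
  have e : WS x = cj k (ws V z) := by
    rw [cj_ws, hkz]; rfl
  rw [e, relIndex_cj]

/-- **the instance** -/
theorem geom [Finite G] (h : Fr T V z) :
    NOThree.Pts.Geom (inc (V := V)) RR WS VL 2 ((ii V).relIndex (ws V z)) where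
  inc_smul g x l hx := conj_mem_cj hx
  R_smul g x a ha := by
    rw [mem_RR h] at ha ⊢
    rcases ha with rfl | rfl
    · left; group
    · right; rfl
  W_smul g x a ha := conj_mem_ws g ha
  V_smul g l a ha := conj_mem_cj ha
  two_le := le_rfl
  card x := by
    change Nat.card (zpowers x.1) = 2
    rw [Nat.card_zpowers, orderOf_eq_prime_iff]
    exact ⟨by rw [pow_two]; exact h.pt_sq x.2, x.ne_one⟩
  ti x y a hx hy ha := by
    rw [mem_RR h] at hx hy
    rcases hx with e | e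
    · exact absurd e ha
    rcases hy with e' | e'
    · exact absurd e' ha
    exact PT.ext (e.symm.trans e')
  R_le x l hx a ha := by
    rw [mem_RR h] at ha
    rcases ha with rfl | rfl
    · exact one_mem _
    · exact hx
  V_le x l hx := le_ws ⟨l.2, hx⟩
  W_le x A hA := ws_le fun L hL => hA ⟨L, hL.1⟩ hL.2
  cover l a ha := by
    obtain ⟨g, hg⟩ := l.2
    by_cases ha1 : a = 1
    · refine ⟨pt (g := g) (conj_mem_cj h.ln.z_mem) (fun e => h.ln.z_ne (conj_eq_one_iff.mp e)), ?_, ?_⟩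
      · change g * z * g⁻¹ ∈ l.1
        rw [hg]
        exact conj_mem_cj h.ln.z_mem
      · rw [ha1]; exact one_mem _
    · have ha' : a ∈ cj g V := hg ▸ ha
      exact ⟨pt ha' ha1, ha, mem_zpowers _⟩
  exists_line x := by
    obtain ⟨g, hg, -⟩ := x.2
    exact ⟨ln V g, hg⟩
  comm x := h.ws_comm x.2
  sq x := h.ws_sq x.2
  F1 x y w l hx hy hw hxy hxw := by rw [inf_eq h hx hy hxy, inf_eq h hx hw hxw]
  index x y l hx hy hxy := by rw [inf_eq h hx hy hxy, index_eq h hx]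
  F2 x y w l hx hy hw hxy u hux huy huV := by
    obtain ⟨g, hg⟩ := l.2
    have hu : u ∈ WS x ⊓ WS y := ⟨hux, huy⟩
    rw [inf_eq h hx hy hxy, hg] at hu
    have hx' : x.1 ∈ cj g V := hg ▸ hx
    have hw' : w.1 ∈ cj g V := hg ▸ hw
    have huV' : u ∉ cj g V := hg ▸ huV
    obtain ⟨c, hc, hcu, hcx⟩ := h.ftwo_cj hu huV' hx' x.ne_one hw' w.ne_one
    refine ⟨c, hcu, LT.ext ?_, PT.ext hcx⟩
    rw [LT.smul_val, hg]
    exact cj_eq_of_mem_normalizer hc

theorem walk_of_pth {k : ℕ} {a b : G} (hp : Pth V k a b) :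
    ∀ (ha : Col V a a) (hb : Col V b b), NOThree.Pts.Walk (inc (V := V)) k ⟨a, ha⟩ ⟨b, hb⟩ := by
  induction hp with
  | zero _ => exact fun _ _ => .zero _
  | step hp c ih =>
    intro ha hb
    obtain ⟨g, h1, h2, -, -⟩ := id c
    exact (ih ha hp.right).step (l := ln V g) h1 h2

theorem pth_of_walk {k : ℕ} {x y : PT V} (hp : NOThree.Pts.Walk (inc (V := V)) k x y) : Pth V k x.1 y.1 := by
  induction hp with
  | zero x => exact .zero x.2
  | @step k x y w l _ hy hw ih =>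
    obtain ⟨g, hg⟩ := l.2
    exact ih.step ⟨g, hg ▸ hy, hg ▸ hw, y.ne_one, w.ne_one⟩

theorem walk_iff {k : ℕ} {x y : PT V} :
    NOThree.Pts.Walk (inc (V := V)) k x y ↔ Pth V k x.1 y.1 :=
  ⟨pth_of_walk, fun hp => walk_of_pth hp x.2 y.2⟩

theorem com_iff' {x y : PT V} : NOThree.Pts.Com (WS (V := V)) x y ↔ Com V x.1 y.1 := Iff.rfl

theorem crit_iff {n : ℕ} {x y : PT V} :
    NOThree.Pts.Crit (inc (V := V)) WS n x y ↔ Cr V n x.1 y.1 := by
  constructor
  · rintro ⟨h1, h2, h3⟩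
    refine ⟨pth_of_walk h1, h2, fun k hk a b hab => ?_⟩
    exact h3 k hk ⟨a, hab.left⟩ ⟨b, hab.right⟩ (walk_of_pth hab _ _)
  · rintro ⟨h1, h2, h3⟩
    exact ⟨walk_iff.2 h1, h2, fun k hk a b hab => h3 k hk _ _ (pth_of_walk hab)⟩

/-- the stabiliser of a point -/
theorem stab_eq (x : PT V) : MulAction.stabilizer G x = centralizer ({x.1} : Set G) := by
  ext g
  rw [MulAction.mem_stabilizer_iff, mem_centralizer_singleton_iff]
  constructor
  · intro h
    have h1 : g * x.1 * g⁻¹ = x.1 := congrArg Subtype.val h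
    exact mul_inv_eq_iff_eq_mul.1 h1
  · intro h
    refine PT.ext ?_
    change g * x.1 * g⁻¹ = x.1
    rw [h]; group

/-- `G` is transitive on flags -/
theorem exists_flag (h : Fr T V z) {x : PT V} {l : LT V} (hx : inc x l) {y : PT V} {m : LT V} (hy : inc y m) :
    ∃ g : G, g • x = y ∧ g • l = m := by
  obtain ⟨a, ha⟩ := l.2
  obtain ⟨b, hb⟩ := m.2
  have hx' : x.1 ∈ cj a V := ha ▸ hx
  have hy' : y.1 ∈ cj b V := hb ▸ hy
  obtain ⟨k, hk, hkz, -⟩ := h.flag hx' x.ne_one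
  obtain ⟨k', hk', hkz', -⟩ := h.flag hy' y.ne_one
  refine ⟨k' * k⁻¹, PT.ext ?_, LT.ext ?_⟩
  · change k' * k⁻¹ * x.1 * (k' * k⁻¹)⁻¹ = y.1
    rw [← hkz, ← hkz']; group
  · change cj (k' * k⁻¹) l.1 = m.1
    rw [ha, hb, ← hk, ← hk', cj_cj]
    congr 1
    group

end

open Cfsg.Agent.Omega.Frame Cfsg.Agent.Omega.NO3S in
/-- **from the leaf**: `Hyp S P`, `|V_P| = 4`, (F1) and a critical pair of cosets -/
theorem exists_crit [Finite G] {S : Sylow 2 G} {P : Subgroup G} (h : Hyp S P)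
    (hc : Nat.card (zl (S : Subgroup G) P) = 4) {z : G} (hz : z ∈ zc (S : Subgroup G)) (hz1 : z ≠ 1)
    (f1 : ∃ k ∈ kq (zl (S : Subgroup G) P) z, k ∉ centralizer (zl (S : Subgroup G) P : Set G)) {n : ℕ} {y : G}
    (hy : CritP (S : Subgroup G) P n 1 y) :
    Fr (S : Subgroup G) (zl (S : Subgroup G) P) z ∧
      ∃ p q : PT (zl (S : Subgroup G) P), p.1 = z ∧ q.1 = y * z * y⁻¹ ∧
        NOThree.Pts.Crit (inc (V := zl (S : Subgroup G) P)) WS n p q := by
  have hf := fr_four h hc hz hz1 f1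
  have hcr := cr_of_crit h hc hz hz1 hf hy
  exact ⟨hf, ⟨z, hcr.path.left⟩, ⟨_, hcr.path.right⟩, rfl, rfl, crit_iff.2 hcr⟩

end Cfsg.Agent.Omega.NO3S.TwoFar
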